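import Cfsg.Agent.Lib.InvChar.CosetCert

/-! Coset enumeration certificate J3X6 for a presented sporadic group. -/

set_option autoImplicit false
set_option maxRecDepth 100000

namespace CfsgLib.InvChar.Coset.J3X6

/-- facts -/
noncomputable def facts : Tr := (.node (.leaf 0x6e4000740006d300006000033000700004500000200000200045000010000170000700000a0000300000600078200077000770000760007620007500075300002000743000730007320007200072000071000714000180007020006f0006f00006e0006e20006d0006d40006c0006c30006b0006b20006a0006a0000690006920006800068400067000673000660006620006500065000064000642000630006340006200062300061000612000600006000005f0005f20005e0005e40005d0005d30005c0005c20005b0005b00005a0005a2000590005940005800058300057000572000560005600005500055200054000544000530005330005200052200051000510000500005020004f0004f40004e0004e30004d0004d20004c0004c00004b0004b20004a0004a4000490004930004800048200047000470000460004620001400045400044000443000430004320004200042000041000412000400004040003f0003f30003e0003e20003d0003d00003c0003c20003b0003b40003a0003a3000390003920003800038000037000372000360003640003500035300034000342000330003300003200032200031000314000300003030002f0002f20002e0002e00002d0002d20002c0002c40002b0002b30002a0002a2000290002900002800028200027000274000260002630002500025200024000240000230002320002200022400021000213000200002020001f0001f00001e0001e20001d0001d40001c0001c30001b0001b20001a0001a0000190001920001000018300000000172000160001630001500015400014000140000130001310001200012000011000111000100001040000f0000f30000e0000e20000d0000d0000000000c20000b0000b40000a0000a200009000091000080000820000700007400006000062000050000510000400004200003000034000020000220000100001100000)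 (.leaf 0xcf0000000045f0000b0000b3000780000930007100072300008))
/-- justifications -/
noncomputable def just : Tr := (.node (.leaf 0x73000720007100070000170007b0007c000020007d0006f0006e00c2801c010001e0001f4001bc001b8001b400080050000006f0006e0006d0006c0006b0006a000690006800067000660006500064000630006200061000600005f0005e0005d0005c0005b0005a000590005800057000560005500054000530005200051000500004f0004e0004d0004c0004b0004a00049000480004700046000450001400015000160007a00001000020083c0bc0080000400000001ec010600300000044000430004200041000400003f0003e0003d0003c0003b0003a000390003800037000360003500034000330003200031000300002f0002e0002d0002c0002b0002a000290002800027000260002500024000230002200021000200001f0001e0001d0001c0001b0001a00019000180000f0000e0000d0000c0103c0c40000005800054000500004c0004800044000400003c000380003400030000000b0b00b0010000900008000070041800400800014000100000c0106001002) (.leaf 0x1ec0020c0002c000200300000082000770007600075000740007c40020014004001dc001d8001d4001d0001f0001ec0005c001c0002040002400028040e00400700071000800000700079000090002000800c0001c00018001f8001b4001fc001cc001c8070d007000))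
/-- relators -/
def rels : List (List ℕ) := [[0, 0], [1, 1], [2, 2], [3, 3], [4, 4], [1, 0, 1, 0, 1, 0, 1, 0], [2, 0, 2, 1], [3, 2, 3, 2, 3, 2], [3, 2, 0, 2, 3, 0], [3, 2, 1, 2, 3, 1], [0, 2, 3, 4, 0, 2, 3, 4, 0, 2, 3, 4], [0, 2, 3, 4, 1, 0, 1, 0, 4, 3, 2, 0, 1], [0, 2, 3, 4, 1, 4, 3, 2, 0, 1, 0, 1, 0, 1], [2, 3, 4, 2, 3, 4, 2, 3], [3, 2, 0, 2, 3, 4, 2, 3, 4, 3, 2, 0], [0, 2, 3, 4, 2, 0, 2, 3, 4, 2, 0, 2, 3, 4, 2, 0, 2, 3, 4, 2, 0, 2, 3, 4, 2, 0, 2, 3, 4, 2, 0, 2, 3, 4, 2, 0, 2, 3, 4, 2, 0, 2, 3, 4, 2, 0, 2, 3, 4, 2]]
/-- subgroup words -/
def subs : List (List ℕ) := []
/-- the letters, as letters of the whole group -/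
def emb : List ℕ := [3, 4, 6, 7, 8]
/-- certificate -/
noncomputable def cert : Cert := ⟨5, 133, 120, facts, just, rels, subs⟩

end CfsgLib.InvChar.Coset.J3X6
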